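import Groth.Agent.RedNorm.Basic

/-!
# Finiteness of the δ-invariant, branches bound
-/

set_option autoImplicit false

universe u

namespace Groth.Agent.RedNorm

variable {A : Type u} [CommRing A]

theorem length_cokernel_lt_top [IsNoetherianRing A] [IsReduced A] [Ring.KrullDimLE 1 A]
    [Module.Finite A (integralClosure A (FractionRing A))] :
    Module.length A (↥(integralClosure A (FractionRing A)) ⧸
      LinearMap.range (Algebra.linearMap A ↥(integralClosure A (FractionRing A)))) < ⊤ := by
  classical
  let B := integralClosure A (FractionRing A)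
  let M := ↥B ⧸ LinearMap.range (Algebra.linearMap A ↥B)
  obtain ⟨S, hS⟩ := (Module.Finite.fg_top : (⊤ : Submodule A B).FG)
  obtain ⟨c, hc⟩ := IsLocalization.exist_integer_multiples (nonZeroDivisors A) S (fun b => (b.1 : FractionRing A))
  have hkill : ∀ m : M, (c : A) • m = 0 := by
    intro m
    obtain ⟨b, rfl⟩ := Submodule.Quotient.mk_surjective _ m
    rw [← Submodule.Quotient.mk_smul, Submodule.Quotient.mk_eq_zero]
    have : b ∈ Submodule.span A (S : Set B) := hS ▸ Submodule.mem_top
    induction this using Submodule.span_induction with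
    | mem x hx =>
      obtain ⟨a, ha⟩ := hc x hx
      exact ⟨a, Subtype.ext ha⟩
    | zero => simp
    | add x y _ _ hx hy => rw [smul_add]; exact add_mem hx hy
    | smul r x _ hx => rw [smul_comm]; exact Submodule.smul_mem _ r hx
  let I : Ideal A := Ideal.span {(c : A)}
  have : Ring.KrullDimLE 0 (A ⧸ I) := by
    refine Ring.KrullDimLE.mk₀ fun P hP => ?_
    have hp : (P.comap (Ideal.Quotient.mk I)).IsPrime := hP.comap _
    rcases Ring.krullDimLE_one_iff.1 ‹Ring.KrullDimLE 1 A› _ hp with hmin | hmax
    · refine absurd ?_ (notMem_of_mem_minimalPrimes c.2 hmin)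
      have : Ideal.Quotient.mk I (c : A) = 0 :=
        Ideal.Quotient.eq_zero_iff_mem.2 (Ideal.subset_span rfl)
      show Ideal.Quotient.mk I (c : A) ∈ P
      rw [this]; exact P.zero_mem
    · have := (Ideal.map_eq_top_or_isMaximal_of_surjective (Ideal.Quotient.mk I) Ideal.Quotient.mk_surjective hmax)
      rw [Ideal.map_comap_of_surjective _ Ideal.Quotient.mk_surjective] at this
      exact this.resolve_left hP.ne_top
  have : IsArtinianRing (A ⧸ I) := IsNoetherianRing.isArtinianRing_of_krullDimLE_zero
  have htors : Module.IsTorsionBySet A M (I : Set A) := by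
    rintro m ⟨a, ha⟩
    obtain ⟨b, rfl⟩ := Ideal.mem_span_singleton'.1 ha
    show (b * (c : A)) • m = 0
    rw [mul_smul, hkill, smul_zero]
  let _ : Module (A ⧸ I) M := htors.module
  have : IsScalarTower A (A ⧸ I) M := htors.isScalarTower
  have : Module.Finite (A ⧸ I) M := Module.Finite.of_restrictScalars_finite A _ _
  show Module.length A M < ⊤
  rw [Module.length_eq_of_surjective (R := A ⧸ I) (S := A) Ideal.Quotient.mk_surjective, lt_top_iff_ne_top]
  exact Module.length_ne_top

/-- For a finite set of maximal ideals of an integral algebra over a local ring, the lengths of the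
residue fields sum to at most one more than the length of the cokernel. -/
theorem sum_length_le [IsLocalRing A] {B : Type u} [CommRing B] [Algebra A B] [Algebra.IsIntegral A B]
    (S : Finset (MaximalSpectrum B)) :
    ∑ m ∈ S, Module.length A (B ⧸ m.asIdeal) ≤
      Module.length A (B ⧸ LinearMap.range (Algebra.linearMap A B)) + 1 := by
  classical
  let T := ∀ m : S, B ⧸ m.1.asIdeal
  let f : B →ₗ[A] T := LinearMap.pi fun m => (Ideal.Quotient.mkₐ A m.1.asIdeal).toLinearMap
  have hf : Function.Surjective f := by
    intro t
    obtain ⟨b, hb⟩ := Ideal.pi_quotient_surjective (I := fun m : S => m.1.asIdeal) (fun m m' h => by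
      refine Ideal.isCoprime_iff_sup_eq.2 (m.1.isMaximal.coprime_of_ne m'.1.isMaximal ?_)
      exact fun e => h (Subtype.ext (MaximalSpectrum.ext e))) t
    exact ⟨b, funext fun m => hb m⟩
  let N : Submodule A T := LinearMap.range (f ∘ₗ Algebra.linearMap A B)
  have hN : Module.length A N ≤ 1 := by
    have hker : IsLocalRing.maximalIdeal A ≤ LinearMap.ker (f ∘ₗ Algebra.linearMap A B) := by
      intro a ha
      refine funext fun m => ?_
      show Ideal.Quotient.mk m.1.asIdeal (algebraMap A B a) = 0
      rw [Ideal.Quotient.eq_zero_iff_mem]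
      have := m.1.isMaximal
      have h1 : (m.1.asIdeal.comap (algebraMap A B)).IsMaximal :=
        Ideal.isMaximal_comap_of_isIntegral_of_isMaximal m.1.asIdeal
      exact (IsLocalRing.eq_maximalIdeal h1).ge ha
    let g : (A ⧸ IsLocalRing.maximalIdeal A) →ₗ[A] N :=
      Submodule.liftQ _ (f ∘ₗ Algebra.linearMap A B).rangeRestrict (by
        rw [LinearMap.ker_rangeRestrict]; exact hker)
    have hg : Function.Surjective g := by
      rintro ⟨_, a, rfl⟩
      exact ⟨Submodule.Quotient.mk a, rfl⟩
    refine (Module.length_le_of_surjective g hg).trans ?_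
    have : IsSimpleModule A (A ⧸ IsLocalRing.maximalIdeal A) :=
      isSimpleModule_iff_isCoatom.2 (IsLocalRing.maximalIdeal.isMaximal A).out
    exact (Module.length_eq_one A _).le
  have hq : Module.length A (T ⧸ N) ≤ Module.length A (B ⧸ LinearMap.range (Algebra.linearMap A B)) := by
    let g : (B ⧸ LinearMap.range (Algebra.linearMap A B)) →ₗ[A] T ⧸ N :=
      Submodule.mapQ _ _ f (by rintro _ ⟨a, rfl⟩; exact ⟨a, rfl⟩)
    refine Module.length_le_of_surjective g fun x => ?_
    obtain ⟨t, rfl⟩ := Submodule.Quotient.mk_surjective _ x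
    obtain ⟨b, rfl⟩ := hf t
    exact ⟨Submodule.Quotient.mk b, rfl⟩
  rw [← Finset.sum_coe_sort S, ← Module.length_pi_of_fintype,
    Module.length_eq_add_of_exact N.subtype N.mkQ N.subtype_injective N.mkQ_surjective
      (LinearMap.exact_subtype_mkQ N), add_comm (Module.length A (B ⧸ _))]
  exact add_le_add hN hq

/-- Embeddings of a residue field extension are bounded by the length. -/
theorem card_emb_le [IsLocalRing A] (L : Type u) [Field L] [Algebra A L]
    (hL : RingHom.ker (algebraMap A L) = IsLocalRing.maximalIdeal A)
    (c : A →+* AlgebraicClosure (IsLocalRing.ResidueField A))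
    (hc : c = (algebraMap (IsLocalRing.ResidueField A) _).comp (IsLocalRing.residue A)) :
    ENat.card {σ : L →+* AlgebraicClosure (IsLocalRing.ResidueField A) // σ.comp (algebraMap A L) = c} ≤
      Module.length A L := by
  let κ := IsLocalRing.ResidueField A
  let _ : Algebra κ L := (Ideal.Quotient.lift _ (algebraMap A L) fun a ha =>
    hL.ge ha).toAlgebra
  have hT : IsScalarTower A κ L := IsScalarTower.of_algebraMap_eq fun a => rfl
  rw [Module.length_eq_of_surjective (R := κ) (S := A) IsLocalRing.residue_surjective]
  by_cases hfin : Module.Finite κ L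
  · let e : {σ : L →+* AlgebraicClosure κ // σ.comp (algebraMap A L) = c} ≃ (L →ₐ[κ] AlgebraicClosure κ) :=
      { toFun := fun σ =>
          { σ.1 with
            commutes' := fun x => by
              obtain ⟨a, rfl⟩ := IsLocalRing.residue_surjective x
              exact (RingHom.congr_fun σ.2 a).trans (RingHom.congr_fun hc a) }
        invFun := fun s => ⟨s.toRingHom, RingHom.ext fun a => by
          rw [hc]; exact s.commutes (IsLocalRing.residue A a)⟩
        left_inv := fun _ => rfl
        right_inv := fun _ => rfl }
    rw [ENat.card_congr e, Module.length_eq_finrank, ENat.card_eq_coe_natCard]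
    exact_mod_cast card_algHom_le_finrank κ L (AlgebraicClosure κ)
  · rw [Module.length_eq_rank]
    have : Cardinal.aleph0 ≤ Module.rank κ L := not_lt.1 fun h => hfin (Module.rank_lt_aleph0_iff.1 h)
    rw [Cardinal.toENat_eq_top.2 this]
    exact le_top

end Groth.Agent.RedNorm
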